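import Mathlib
import Groth.Agent.Lib.Helper5.PerfLocus.RingLocal

/-!
# A pseudo-coherent complex over a local ring whose derived base change along a local
homomorphism is perfect is perfect (helper5)
-/
set_option autoImplicit false
set_option linter.unusedSectionVars false
set_option linter.unusedVariables false
set_option linter.style.haveILetI false
universe u
open CategoryTheory CategoryTheory.Limits DerivedCategory
attribute [local instance] HasDerivedCategory.standard

namespace Groth.Agent.Lib.Helper5.FibPerf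

open Groth.Agent.Lib.Helper5.KProj Groth.Agent.Lib.Helper5.KFlat Groth.Agent.Lib.Helper5.DTenLib
open Groth.Agent.Helper5.FlatBC Groth.Agent.Helper5.PCDev _root_.Helper5.Shriek
open Groth.Agent.Lib.Helper5.LocusRing
open Groth.Agent.Helper3.MinCx Groth.Agent.Helper3.ProjLiftNil

variable {R S : Type u} [CommRing R] [CommRing S] [IsLocalRing R] [IsLocalRing S]
  (φ : R →+* S) [IsLocalHom φ]

/-- **a pseudo-coherent complex over a local ring whose derived base change along a local
homomorphism is perfect is perfect** -/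
theorem isPerfect_of_lbc_isPerfect (K : Dual.D R) (hK : DRing.IsPseudoCoherent' R K)
    (h : DRing.IsPerfect S ((DRing.LBaseChange φ).obj K)) : DRing.IsPerfect R K := by
  let mR := IsLocalRing.maximalIdeal R
  let mS := IsLocalRing.maximalIdeal S
  letI : Field (R ⧸ mR) := Ideal.Quotient.field mR
  letI : Field (S ⧸ mS) := Ideal.Quotient.field mS
  have hle : mR ≤ mS.comap φ := ((IsLocalRing.local_hom_TFAE φ).out 0 3).1 ‹_›
  let πR : R →+* R ⧸ mR := Ideal.Quotient.mk mR
  let πS : S →+* S ⧸ mS := Ideal.Quotient.mk mS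
  let ψ : R ⧸ mR →+* S ⧸ mS := Ideal.quotientMap mS φ hle
  have hsq : ψ.comp πR = πS.comp φ := Ideal.quotientMap_comp_mk hle
  obtain ⟨P, b, hPb, hPt, ⟨eP⟩, hH⟩ :=
    exists_minimal mR (IsLocalRing.maximalIdeal_le_jacobson ⊥) K hK
  obtain ⟨E, a, b', hE, hEt, ⟨eE⟩⟩ := h
  have hEflat : DRing.IsKFlat S E := isKFlat_of_bounded_above E b' (fun i hi => hE i (Or.inr hi))
    (fun n => by
      obtain ⟨h1, h2⟩ := hEt n
      infer_instance)
  let X := (DRing.LBaseChange (πS.comp φ)).obj K
  let aI : X ≅ DRing.toD ((bcCx πS).obj E) :=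
    (lbcCompIso φ πS).app K ≪≫ (DRing.LBaseChange πS).mapIso eE.symm ≪≫ lbcIsoFlat πS E hEflat
  have b0 : Nonempty (DRing.LBaseChange (πS.comp φ) ≅ DRing.LBaseChange (ψ.comp πR)) := by
    rw [hsq]
    exact ⟨Iso.refl _⟩
  obtain ⟨b0⟩ := b0
  let bb : X ≅ (DRing.LBaseChange ψ).obj ((DRing.LBaseChange πR).obj K) :=
    b0.app K ≪≫ (lbcCompIso πR ψ).app K
  have key : ∀ j : ℤ, Module.finrank R (P.X j) = Module.finrank (S ⧸ mS) (Hn j X) := by
    intro j
    obtain ⟨h1, h2⟩ := hPt j
    obtain ⟨eH⟩ := hH j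
    rw [((homologyFunctor (ModuleCat.{u} (S ⧸ mS)) j).mapIso bb).toLinearEquiv.finrank_eq]
    rw [finrank_Hn_lbc_field ψ _ j]
    rw [← eH.toLinearEquiv.finrank_eq]
    exact (finrank_extendScalars πR (P.X j)).symm
  have hj : ∀ j : ℤ, j < a → IsZero (P.X j) := by
    intro j hja
    obtain ⟨h1, h2⟩ := hPt j
    have hz0 : IsZero (((bcCx πS).obj E).X j) :=
      Functor.map_isZero (ModuleCat.extendScalars.{u, u, u} πS) (hE j (Or.inl hja))
    have hz1 : IsZero (Hn j (DRing.toD ((bcCx πS).obj E))) :=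
      IsZero.of_iso (ShortComplex.isZero_homology_of_isZero_X₂ _ hz0)
        ((homologyFunctorFactors (ModuleCat.{u} (S ⧸ mS)) j).app _)
    have hz : IsZero (Hn j X) :=
      IsZero.of_iso hz1 ((homologyFunctor (ModuleCat.{u} (S ⧸ mS)) j).mapIso aI)
    have h0 : Module.finrank R (P.X j) = 0 := by
      rw [key j]
      haveI := ModuleCat.subsingleton_of_isZero hz
      exact Module.finrank_zero_of_subsingleton
    haveI := (Module.finrank_eq_zero_iff_of_free (R := R) (M := P.X j)).1 h0
    exact ModuleCat.isZero_of_subsingleton _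
  refine ⟨P, a, b, ?_, fun i => ?_, ⟨eP⟩⟩
  · rintro i (hi | hi)
    · exact hj i hi
    · exact hPb i hi
  · obtain ⟨h1, h2⟩ := hPt i
    exact ⟨h1, Module.Projective.of_free⟩

/-- perfect complexes have finite tor amplitude -/
theorem hasTorAmplitudeIn_of_isPerfect {A : Type u} [CommRing A] (K : Dual.D A)
    (h : DRing.IsPerfect A K) : ∃ a b : ℤ, DRing.HasTorAmplitudeIn A a b K := by
  obtain ⟨E, a, b, hE, hEt, ⟨eE⟩⟩ := h
  refine ⟨a, b, E, hE, fun i => ?_, ⟨eE⟩⟩
  obtain ⟨h1, h2⟩ := hEt i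
  infer_instance

end Groth.Agent.Lib.Helper5.FibPerf
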