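import Mathlib
import Groth.Agent.Lib.Helper5.PerfLocus.StalkLocal
import Groth.Agent.Lib.Helper5.KSix.PerfStalk
import Groth.Agent.Lib.Helper5.DRing.PCBuild
import Groth.Agent.Lib.Helper5.Perf.ExactHom
import Groth.Agent.Lib.Helper5.TildePC.Main

/-!
# Stalks of pseudo-coherent complexes are pseudo-coherent over the local rings (helper5)
-/
set_option autoImplicit false
set_option linter.unusedSectionVars false
set_option linter.unusedVariables false
set_option linter.style.haveILetI false
universe u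
open CategoryTheory CategoryTheory.Limits MonoidalCategory AlgebraicGeometry
attribute [local instance] HasDerivedCategory.standard

namespace Groth.Agent.Lib.Helper5.FibPerf

open Groth.Agent.Lib.Helper5.StalkTot Groth.Agent.Lib.Helper5.StalkAdj
open Groth.Agent.Helper5.TorAmp Groth.Agent.Lib.Helper5.TensorAmp
open Groth.Agent.Lib.Helper5.KSixFlat Groth.Agent.Lib.Helper5.KFlatPull
open Groth.Agent.Lib.Helper5.KFlatStalk Groth.Agent.Lib.Helper5.LpullLib
open Groth.Agent.Lib.Helper5.DerSchTor Groth.Agent.Lib.Helper5.PerfTri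
open Groth.Agent.Lib.Helper5.StalkFree Groth.Agent.Lib.Helper5.LocusRing
open Groth.Agent.Lib.Helper5.PerfLocus Groth.Agent.Lib.Helper5.PCApprox
open Groth.Agent.Lib.Helper5.ExactHom
open DTen

section ring

variable {A B : Type u} [CommRing A] [CommRing B] (ε : A →+* B)

/-- `m`-pseudo-coherence passes to the restriction of scalars along a bijective ring map -/
theorem isPseudoCoherent_resCx_of_bijective (hε : Function.Bijective ε) (L : DRing.Cx B) (m : ℤ)
    (h : DRing.IsPseudoCoherent B m (DRing.toD L)) :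
    DRing.IsPseudoCoherent A m (DRing.toD ((resCx ε).obj L)) := by
  obtain ⟨E, a, b, α, hab, hE, h1, h2⟩ := h
  refine ⟨(resCx ε).obj E, a, b,
    ((resFactors ε).app E).inv ≫ (DRing.restrictD ε).map α ≫ ((resFactors ε).app L).hom,
    ?_, ?_, ?_, ?_⟩
  · intro i hi
    exact Functor.map_isZero (ModuleCat.restrictScalars.{u} ε) (hab i hi)
  · intro i
    have := free_finite_restrictScalars_of_bijective ε hε (E.X i) ⟨(hE i).2, (hE i).1⟩
    exact ⟨this.2, this.1⟩
  · intro i hi
    haveI := isIso_homology_map (R := ModuleCat.restrictScalars.{u} ε) α i (h1 i hi)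
    rw [Functor.map_comp, Functor.map_comp]
    infer_instance
  · haveI := epi_homology_map (R := ModuleCat.restrictScalars.{u} ε) α m h2
    rw [Functor.map_comp, Functor.map_comp]
    infer_instance

end ring

section stalk

variable {X : Scheme.{u}}

/-- **the stalks of an `m`-pseudo-coherent complex are `m`-pseudo-coherent over the local rings** -/
theorem isPseudoCoherent_stalkCx (Pc : CochainComplex X.Modules ℤ) (m : ℤ)
    (hP : DCoh.IsPseudoCoherentD m (DCoh.toD X Pc)) (x : X) :
    DRing.IsPseudoCoherent (X.presheaf.stalk x) m (DRing.toD (stalkCx X x Pc)) := by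
  obtain ⟨V, hxV, K, α, hK, hα⟩ := exists_approx_of_isPC hP x
  let x' : (V : Scheme.{u}) := ⟨x, hxV⟩
  let G : CochainComplex (V : Scheme.{u}).Modules ℤ := (DCoh.restrictCx V).obj Pc
  let eV : (DCoh.restrictD V.ι).obj (DCoh.toD X Pc) ≅ DerivedCategory.Q.obj G :=
    (Scheme.Modules.restrictFunctor V.ι).mapDerivedCategoryFactors.app Pc
  have hα' : IsApprox m (α ≫ eV.hom) := hα.comp_iso eV
  have hV : DRing.IsPseudoCoherent ((V : Scheme.{u}).presheaf.stalk x') m
      (DRing.toD (stalkCx (V : Scheme.{u}) x' G)) := by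
    obtain ⟨⟨a, b, hab⟩, hfl⟩ := hK
    refine ⟨stalkCx (V : Scheme.{u}) x' K, a, b,
      ((stalkSh (V : Scheme.{u}) x').mapDerivedCategoryFactors.app K).inv ≫
        (stalkSh (V : Scheme.{u}) x').mapDerivedCategory.map (α ≫ eV.hom) ≫
        ((stalkSh (V : Scheme.{u}) x').mapDerivedCategoryFactors.app G).hom, ?_, ?_, ?_, ?_⟩
    · intro i hi
      exact Functor.map_isZero (stalkSh (V : Scheme.{u}) x') (hab i hi)
    · intro i
      have := free_finite_stalk_of_isFinLocFree (K.X i) (hfl i) x'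
      exact ⟨this.2, this.1⟩
    · intro i hi
      haveI := isIso_homology_map (R := stalkSh (V : Scheme.{u}) x') (α ≫ eV.hom) i (hα'.1 i hi)
      rw [Functor.map_comp, Functor.map_comp]
      infer_instance
    · haveI := epi_homology_map (R := stalkSh (V : Scheme.{u}) x') (α ≫ eV.hom) m hα'.2
      rw [Functor.map_comp, Functor.map_comp]
      infer_instance
  have hbij : Function.Bijective (V.ι.stalkMap x').hom :=
    (ConcreteCategory.isIso_iff_bijective _).1 inferInstance
  have h1 := isPseudoCoherent_resCx_of_bijective (V.ι.stalkMap x').hom hbij _ m hV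
  haveI := isIso_unitCx_of_bijective (V.ι.stalkMap x').hom hbij (stalkCx X (V.ι.base x') Pc)
  have e3 : stalkCx X (V.ι.base x') Pc ≅ (resCx (V.ι.stalkMap x').hom).obj
      (stalkCx (V : Scheme.{u}) x' ((DCoh.restrictCx V).obj Pc)) :=
    asIso ((unitCx (V.ι.stalkMap x').hom).app (stalkCx X (V.ι.base x') Pc)) ≪≫
      (resCx (V.ι.stalkMap x').hom).mapIso (stalkCxRestrictIso V x' Pc).symm
  exact Groth.Agent.Lib.Helper5.TildePC.isPseudoCoherent_of_iso
    (DerivedCategory.Q.mapIso e3.symm) h1

/-- the stalks of a pseudo-coherent complex are pseudo-coherent -/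
theorem isPC'_stalkCx_of_isPC (Pc : CochainComplex X.Modules ℤ)
    (hP : ∀ m : ℤ, DCoh.IsPseudoCoherentD m (DCoh.toD X Pc)) (x : X) :
    DRing.IsPseudoCoherent' (X.presheaf.stalk x) (DRing.toD (stalkCx X x Pc)) :=
  Groth.Agent.Helper5.PCBuild.pc'_of_forall_pc _ (fun m => isPseudoCoherent_stalkCx Pc m (hP m) x)

/-- **the stalks of a perfect complex are perfect over the local rings** -/
theorem isPerfect_stalkCx_of_isPerfect (Pc : CochainComplex X.Modules ℤ)
    (hP : DCoh.IsPerfect (DCoh.toD X Pc)) (x : X) :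
    DRing.IsPerfect (X.presheaf.stalk x) (DRing.toD (stalkCx X x Pc)) := by
  obtain ⟨V, hxV, K₀, hK₀, ⟨e0⟩⟩ := exists_LPD_of_isPerfect hP x
  let x' : (V : Scheme.{u}) := ⟨x, hxV⟩
  let eV : (DCoh.restrictD V.ι).obj (DCoh.toD X Pc) ≅
      DerivedCategory.Q.obj ((DCoh.restrictCx V).obj Pc) :=
    (Scheme.Modules.restrictFunctor V.ι).mapDerivedCategoryFactors.app Pc
  have e1 : DCoh.toD (V : Scheme.{u}) ((DCoh.restrictCx V).obj Pc) ≅ DCoh.toD (V : Scheme.{u}) K₀ :=
    eV.symm ≪≫ e0
  have e2 := resStalkDIso V.ι x' e1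
  have hbij : Function.Bijective (V.ι.stalkMap x').hom :=
    (ConcreteCategory.isIso_iff_bijective _).1 inferInstance
  haveI := isIso_unitCx_of_bijective (V.ι.stalkMap x').hom hbij (stalkCx X (V.ι.base x') Pc)
  have e3 : stalkCx X (V.ι.base x') Pc ≅ (resCx (V.ι.stalkMap x').hom).obj
      (stalkCx (V : Scheme.{u}) x' ((DCoh.restrictCx V).obj Pc)) :=
    asIso ((unitCx (V.ι.stalkMap x').hom).app (stalkCx X (V.ι.base x') Pc)) ≪≫
      (resCx (V.ι.stalkMap x').hom).mapIso (stalkCxRestrictIso V x' Pc).symm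
  obtain ⟨⟨a, b, hab⟩, hfl⟩ := hK₀
  refine ⟨(resCx (V.ι.stalkMap x').hom).obj (stalkCx (V : Scheme.{u}) x' K₀), a, b,
    fun j hj => ?_, fun j => ?_, ⟨e2.symm ≪≫ DerivedCategory.Q.mapIso e3.symm⟩⟩
  · exact Functor.map_isZero (ModuleCat.restrictScalars.{u} (V.ι.stalkMap x').hom)
      (Functor.map_isZero (stalkSh (V : Scheme.{u}) x') (hab j hj))
  · have h1 := free_finite_stalk_of_isFinLocFree (K₀.X j) (hfl j) x'
    have h2 := free_finite_restrictScalars_of_bijective (V.ι.stalkMap x').hom hbij _ h1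
    haveI := h2.1
    have h3 : Module.Projective (X.presheaf.stalk (V.ι.base x'))
        ((ModuleCat.restrictScalars.{u} (V.ι.stalkMap x').hom).obj
          ((stalkSh (V : Scheme.{u}) x').obj (K₀.X j))) := Module.Projective.of_free
    exact ⟨h2.2, h3⟩

end stalk

end Groth.Agent.Lib.Helper5.FibPerf
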