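import Mathlib
import Groth.Agent.Lib.Helper5.FibPerf.RingPerf
import Groth.Agent.Lib.Helper5.FibPerf.StalkPC
import Groth.Agent.Lib.Helper5.Perf.PerfIff
import Groth.Agent.Lib.Helper5.Perf.LpullPerf

/-!
# A pseudo-coherent, locally bounded below complex with perfect derived fibres is perfect
(helper5)
-/
set_option autoImplicit false
set_option linter.unusedSectionVars false
set_option linter.unusedVariables false
set_option linter.style.haveILetI false
universe u
open CategoryTheory CategoryTheory.Limits MonoidalCategory AlgebraicGeometry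
attribute [local instance] HasDerivedCategory.standard

namespace Groth.Agent.Lib.Helper5.FibPerf

open Groth.Agent.Lib.Helper5.StalkTot Groth.Agent.Lib.Helper5.StalkAdj
open Groth.Agent.Helper5.TorAmp Groth.Agent.Lib.Helper5.TensorAmp
open Groth.Agent.Lib.Helper5.KSixFlat Groth.Agent.Lib.Helper5.KFlatPull
open Groth.Agent.Lib.Helper5.KFlatStalk Groth.Agent.Lib.Helper5.LpullLib
open Groth.Agent.Lib.Helper5.DerSchTor Groth.Agent.Lib.Helper5.PerfTri
open Groth.Agent.Lib.Helper5.StalkFree Groth.Agent.Lib.Helper5.LocusRing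
open Groth.Agent.Lib.Helper5.PerfLocus Groth.Agent.Lib.Helper5.PCApprox
open Groth.Agent.Lib.Helper5.KSixPerf Groth.Agent.Lib.Helper5.PCTri
open DTen

variable {X Y : Scheme.{u}}

/-- **if `Lι^*E` is perfect and `E` is pseudo-coherent, the stalks of `E` at the points of the
image of `ι` are perfect** -/
theorem isPerfect_stalkCx_of_lpull_isPerfect (ι : Y ⟶ X) [DCoh.HasLpull ι]
    (Pc : CochainComplex X.Modules ℤ) (hPc : KFT Pc)
    (hPC : ∀ m : ℤ, DCoh.IsPseudoCoherentD m (DCoh.toD X Pc))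
    (hperf : DCoh.IsPerfect ((DCoh.Lpull ι).obj (DCoh.toD X Pc))) (y : Y) :
    DRing.IsPerfect (X.presheaf.stalk (ι.base y)) (DRing.toD (stalkCx X (ι.base y) Pc)) := by
  have hC := isKFlat_stalkCx Pc hPc.1 (ι.base y)
  have h1 : DCoh.IsPerfect (DCoh.toD Y (((Scheme.Modules.pullback ι).mapHomologicalComplex
      (ComplexShape.up ℤ)).obj Pc)) := isPerfect_of_iso (lpullObjIso ι Pc hPc) hperf
  have h2 := isPerfect_stalkCx_of_isPerfect _ h1 y
  let e : (DRing.LBaseChange (ι.stalkMap y).hom).obj (DRing.toD (stalkCx X (ι.base y) Pc)) ≅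
      DRing.toD (stalkCx Y y (((Scheme.Modules.pullback ι).mapHomologicalComplex
        (ComplexShape.up ℤ)).obj Pc)) :=
    Groth.Agent.Lib.Helper5.KFlat.lbcIsoFlat (ι.stalkMap y).hom _ hC ≪≫
      DerivedCategory.Q.mapIso (stalkCxPullbackIso ι Pc y).symm
  exact isPerfect_of_lbc_isPerfect (ι.stalkMap y).hom _ (isPC'_stalkCx_of_isPC Pc hPC (ι.base y))
    (Groth.Agent.Lib.Helper5.TildePC.isPerfect_of_iso' e.symm h2)

/-- **a pseudo-coherent complex which is locally bounded (e.g. of locally finite relative tor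
dimension) and whose derived fibres are perfect is perfect** -/
theorem isPerfect_of_fibres_perfect {S : Scheme.{u}} (f : X ⟶ S)
    [∀ s : S, DCoh.HasLpull (f.fiberι s)] (E : DCoh.D X)
    (hPC : ∀ m : ℤ, DCoh.IsPseudoCoherentD m E) (hTor : DCoh.LocHasFiniteRelTorDim f E)
    (hfib : ∀ s : S, DCoh.IsPerfect ((DCoh.Lpull (f.fiberι s)).obj E)) : DCoh.IsPerfect E := by
  obtain ⟨Pc, hcell, ⟨eP⟩⟩ := exists_cell_repr E
  have hPc : KFT Pc := kft_of_cell hcell
  have hPC' : ∀ m : ℤ, DCoh.IsPseudoCoherentD m (DCoh.toD X Pc) := fun m =>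
    isPC_of_iso eP.symm (hPC m)
  apply isPerfect_of_LPD
  intro x
  obtain ⟨V, a, b, hxV, hV⟩ := hTor x
  obtain ⟨E₀, hE₀v, hE₀f, ⟨e₀⟩⟩ := hV Pc ⟨eP⟩
  -- the stalk at `x` is perfect
  have hx' : (f.fiberι (f.base x)).base (f.asFiber x) = x := f.fiberι_asFiber x
  have hperf := isPerfect_stalkCx_of_lpull_isPerfect (f.fiberι (f.base x)) Pc hPc hPC'
    (isPerfect_of_iso ((DCoh.Lpull (f.fiberι (f.base x))).mapIso eP.symm) (hfib (f.base x)))
    (f.asFiber x)
  rw [hx'] at hperf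
  obtain ⟨a₀, b₀, hamp⟩ := hasTorAmplitudeIn_of_isPerfect _ hperf
  let xV : (V : Scheme.{u}) := ⟨x, hxV⟩
  have h1 := stalk_torAmplitude_restrict' V x hxV Pc a₀ b₀ hamp
  have h2 : DRing.HasTorAmplitudeIn ((V : Scheme.{u}).presheaf.stalk xV) a₀ b₀
      (DRing.toD (stalkCx (V : Scheme.{u}) xV E₀)) :=
    hasTorAmplitudeIn_of_iso (stalkDIso xV e₀.symm) h1
  haveI : E₀.IsStrictlyGE a := (CochainComplex.isStrictlyGE_iff E₀ a).2
    (fun i hi => hE₀v i (Or.inl hi))
  haveI : E₀.IsGE a := inferInstance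
  let eV : (DCoh.restrictD V.ι).obj (DCoh.toD X Pc) ≅
      DerivedCategory.Q.obj ((DCoh.restrictCx V).obj Pc) :=
    (Scheme.Modules.restrictFunctor V.ι).mapDerivedCategoryFactors.app Pc
  have hPCV : ∀ m : ℤ, DCoh.IsPseudoCoherentD m (DCoh.toD (V : Scheme.{u}) E₀) := fun m =>
    isPC_of_iso (eV ≪≫ e₀.symm) (Groth.Agent.Lib.Helper5.PerfIff.isPC_restrict (hPC' m) V)
  obtain ⟨U, j, hj, hxU, hL⟩ := exists_LPD_of_pseudoCoherent_of_stalk E₀ a hPCV xV a₀ b₀ h2
  refine ⟨U, j ≫ V.ι, inferInstance, ?_, ?_⟩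
  · obtain ⟨u, hu⟩ := hxU
    refine ⟨u, ?_⟩
    show V.ι.base (j.base u) = x
    rw [hu]
    rfl
  · exact LPD_of_restrict j V.ι (LPD_of_iso j
      (e₀ ≪≫ eV.symm ≪≫ (DCoh.restrictD V.ι).mapIso eP) hL)

end Groth.Agent.Lib.Helper5.FibPerf
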